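/-
Recognising the smallest Mathieu group from its commuting graph or from its element counts.
-/
import Cfsg.Agent.Lib.SimpleM11.Recognition
import Cfsg.Agent.Lib.Golay.Mathieu
import Cfsg.Agent.Lib.SmallOrders.Order7920

set_option autoImplicit false
set_option linter.style.haveILetI false
set_option linter.unusedSectionVars false

namespace CfsgM11Det

open Cfsg Subgroup CfsgSimpleM11
open scoped Pointwise

theorem isM11_spor : IsM11 ↥Spor.M11 := ⟨CfsgGolay.isSimple_sporM11, CfsgGolay.card_sporM11⟩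

variable {G : Type*} [Group G] [Finite G]

/-- A group of order 7920 with self-centralising subgroups of order eleven. -/
theorem iso_of_cent (hcard : Nat.card G = 7920)
    (hc : ∀ a : G, orderOf a = 11 → Nat.card (centralizer ({a} : Set G)) = 11) :
    Nonempty (G ≃* ↥Spor.M11) := by
  classical
  haveI : IsSimpleGroup G := by
    refine CfsgLib.Order7920.simple hcard {11} ?_ ⟨11, rfl, by norm_num, by rw [hcard]; norm_num⟩
      ⟨2, by simp, by norm_num, by rw [hcard]; norm_num⟩
    intro p hp q hq _ hq' _ _ hg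
    obtain ⟨g, hg⟩ := hg
    rw [Set.mem_singleton_iff] at hp hq
    subst hp
    have h1 : orderOf (g ^ q) = 11 := by
      rw [orderOf_pow' g hq'.ne_zero, hg, Nat.gcd_mul_left_left, Nat.mul_div_cancel _ hq'.pos]
    have h2 : 11 * q ∣ 11 := by
      rw [← hg, ← hc _ h1]
      exact orderOf_dvd_natCard _ (mem_cent.mpr (Commute.self_pow g q))
    have h3 := Nat.le_of_dvd (by norm_num) h2
    have h4 := hq'.two_le
    omega
  haveI := Fintype.ofFinite G
  exact unique7920 ⟨inferInstance, hcard⟩ isM11_spor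

theorem card_compl_one (G : Type*) [Group G] [Finite G] :
    Nat.card G = Nat.card {g : G // g ≠ 1} + 1 := by
  classical
  rw [← Finite.card_option]
  exact (Nat.card_congr (Equiv.optionSubtypeNe 1)).symm

/-- The non-identity elements of a centraliser, as a set of non-identity elements. -/
def centEquiv {J : Type*} [Group J] (c : J) :
    {g : centralizer ({c} : Set J) // g ≠ 1} ≃ {y : {g : J // g ≠ 1} // (y : J) * c = c * y} where
  toFun g := ⟨⟨(g.1 : J), fun e => g.2 (Subtype.ext e)⟩, mem_centralizer_singleton_iff.mp g.1.2⟩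
  invFun y := ⟨⟨y.1.1, mem_centralizer_singleton_iff.mpr y.2⟩, fun e => y.1.2 (congrArg Subtype.val e)⟩
  left_inv _ := rfl
  right_inv _ := rfl

theorem card_cent_eq {H : Type*} [Group H] [Finite H] {K : Type*} [Group K] [Finite K]
    (f : {h : H // h ≠ 1} ≃ {g : K // g ≠ 1})
    (hf : ∀ x y : {h : H // h ≠ 1}, (x : H) * y = y * x ↔ ((f x) : K) * (f y) = (f y) * (f x))
    (x : {h : H // h ≠ 1}) :
    Nat.card (centralizer ({(x : H)} : Set H)) = Nat.card (centralizer ({((f x) : K)} : Set K)) := by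
  rw [card_compl_one ↥(centralizer ({(x : H)} : Set H)),
    card_compl_one ↥(centralizer ({((f x) : K)} : Set K))]
  congr 1
  have e := centEquiv (x : H)
  have e' := centEquiv ((f x) : K)
  rw [Nat.card_congr e, Nat.card_congr e']
  exact Nat.card_congr (Equiv.subtypeEquiv f fun y => hf y x)

/-- The commuting graph determines the smallest Mathieu group. -/
theorem iso_of_commuting {H : Type*} [Group H] [Finite H]
    (f : {h : H // h ≠ 1} ≃ {g : ↥Spor.M11 // g ≠ 1})
    (hf : ∀ x y : {h : H // h ≠ 1}, (x : H) * y = y * x ↔ ((f x) : ↥Spor.M11) * (f y) = (f y) * (f x)) :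
    Nonempty (H ≃* ↥Spor.M11) := by
  refine iso_of_cent (by rw [card_compl_one H, Nat.card_congr f, ← card_compl_one, card_eq isM11_spor]) ?_
  intro a ha
  have hne : a ≠ 1 := fun e => by rw [e, orderOf_one] at ha; norm_num at ha
  have h1 := card_cent_eq f hf ⟨a, hne⟩
  have h2 : 11 ∣ Nat.card (centralizer ({a} : Set H)) :=
    ha ▸ orderOf_dvd_natCard _ (mem_cent.mpr rfl)
  have h3 : orderOf ((f ⟨a, hne⟩) : ↥Spor.M11) ≠ 1 := fun e => (f ⟨a, hne⟩).2 (orderOf_eq_one_iff.mp e)
  rw [h1] at h2 ⊢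
  by_cases h : orderOf ((f ⟨a, hne⟩) : ↥Spor.M11) = 11
  · exact cent11 isM11_spor h
  · exact absurd h2 (not_eleven_dvd_cent isM11_spor h3 h)

/-- A prime whose centralisers avoid a set closed under conjugation divides its size. -/
theorem dvd_count {p : ℕ} [Fact p.Prime] {a : G} (ha : orderOf a = p) (n : ℕ)
    (h : ∀ g : G, orderOf g = n → ¬ p ∣ Nat.card (centralizer ({g} : Set G))) :
    p ∣ Nat.card {g : G // orderOf g = n} := by
  letI : MulAction (zpowers a) {g : G // orderOf g = n} :=
    { smul := fun z g => ⟨MulAut.conj (z : G) g.1, by rw [MulEquiv.orderOf_eq]; exact g.2⟩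
      one_smul := fun g => Subtype.ext (by show MulAut.conj (1 : G) g.1 = g.1; simp)
      mul_smul := fun s t g => Subtype.ext (by
        show MulAut.conj ((s : G) * t) g.1 = MulAut.conj (s : G) (MulAut.conj (t : G) g.1); simp [map_mul]) }
  have hP : IsPGroup p (zpowers a) := IsPGroup.of_card (n := 1) (by rw [Nat.card_zpowers, ha, pow_one])
  have h0 : IsEmpty (MulAction.fixedPoints (zpowers a) {g : G // orderOf g = n}) := ⟨fun g => by
    refine h g.1.1 g.1.2 (ha ▸ orderOf_dvd_natCard _ (mem_cent.mpr ?_))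
    have := congrArg Subtype.val (g.2 ⟨a, mem_zpowers a⟩)
    exact mul_inv_eq_iff_eq_mul.mp this⟩
  have := hP.card_modEq_card_fixedPoints {g : G // orderOf g = n}
  rw [Nat.card_of_isEmpty (α := MulAction.fixedPoints (zpowers a) {g : G // orderOf g = n})] at this
  exact Nat.modEq_zero_iff_dvd.mp this

/-- The class of an element is contained in the elements of its order. -/
theorem index_le_count {g : G} {n : ℕ} (hg : orderOf g = n) :
    (centralizer ({g} : Set G)).index ≤ Nat.card {x : G // orderOf x = n} := by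
  have hf : ∀ a b : G, (QuotientGroup.leftRel (centralizer ({g} : Set G))).r a b →
      (⟨MulAut.conj a g, by rw [MulEquiv.orderOf_eq]; exact hg⟩ : {x : G // orderOf x = n}) =
        ⟨MulAut.conj b g, by rw [MulEquiv.orderOf_eq]; exact hg⟩ := by
    intro a b hab
    rw [QuotientGroup.leftRel_apply, mem_cent] at hab
    apply Subtype.ext
    show a * g * a⁻¹ = b * g * b⁻¹
    calc a * g * a⁻¹ = a * (g * (a⁻¹ * b)) * b⁻¹ := by group
      _ = a * ((a⁻¹ * b) * g) * b⁻¹ := by rw [hab]
      _ = b * g * b⁻¹ := by group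
  rw [index_eq_card]
  refine Nat.card_le_card_of_injective (fun q => Quotient.liftOn' q _ hf) ?_
  intro q r
  refine Quotient.inductionOn₂' q r fun a b e => ?_
  have e' : a * g * a⁻¹ = b * g * b⁻¹ := congrArg Subtype.val e
  refine Quotient.sound' ?_
  rw [QuotientGroup.leftRel_apply, mem_cent]
  calc a⁻¹ * b * g = a⁻¹ * (b * g * b⁻¹) * b := by group
    _ = a⁻¹ * (a * g * a⁻¹) * b := by rw [e']
    _ = g * (a⁻¹ * b) := by group

/-- The element counts of the smallest Mathieu group are one, large, or multiples of 55. -/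
theorem count_shape {c : ℕ} (hc : 0 < c) {n : ℕ} (h : c = Nat.card {g : ↥Spor.M11 // orderOf g = n}) :
    c = 1 ∨ 720 ≤ c ∨ 55 ∣ c := by
  classical
  haveI := Fintype.ofFinite ↥Spor.M11
  have hM := isM11_spor
  obtain ⟨⟨g, hg⟩⟩ : Nonempty {g : ↥Spor.M11 // orderOf g = n} := (Nat.card_pos_iff.mp (h ▸ hc)).1
  have hbig : ∀ d : ℕ, Nat.card (centralizer ({g} : Set ↥Spor.M11)) = d → 0 < d → d ≤ 11 → 720 ≤ c := by
    intro d hd hd0 hd'
    have h1 := (centralizer ({g} : Set ↥Spor.M11)).card_mul_index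
    have h2 := index_le_count hg
    rw [← h] at h2
    rw [hd, card_eq hM] at h1
    nlinarith only [h1, h2, hd', hd0]
  rcases eq_or_ne n 1 with rfl | h1
  · left
    rw [h]
    refine Nat.card_eq_one_iff_exists.mpr ⟨⟨1, orderOf_one⟩, fun x => Subtype.ext ?_⟩
    exact orderOf_eq_one_iff.mp x.2
  rcases eq_or_ne n 11 with rfl | h11
  · exact Or.inr (Or.inl (hbig 11 (cent11 hM hg) (by norm_num) le_rfl))
  rcases eq_or_ne n 5 with rfl | h5
  · exact Or.inr (Or.inl (hbig 5 (cent5 hM hg).1 (by norm_num) (by norm_num)))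
  refine Or.inr (Or.inr ?_)
  haveI : Fact (Nat.Prime 11) := ⟨by norm_num⟩
  haveI : Fact (Nat.Prime 5) := ⟨by norm_num⟩
  obtain ⟨a, ha⟩ := exists_prime_orderOf_dvd_card' (G := ↥Spor.M11) 11 (by rw [card_eq hM]; norm_num)
  obtain ⟨u, hu⟩ := exists_prime_orderOf_dvd_card' (G := ↥Spor.M11) 5 (by rw [card_eq hM]; norm_num)
  rw [h]
  exact Nat.Coprime.mul_dvd_of_dvd_of_dvd (show Nat.Coprime 5 11 by norm_num)
    (dvd_count hu n fun x hx => not_five_dvd_cent hM (hx ▸ h1) (hx ▸ h5))
    (dvd_count ha n fun x hx => not_eleven_dvd_cent hM (hx ▸ h1) (hx ▸ h11))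

/-- Elements of prime order counted through Sylow subgroups of that order. -/
theorem count_prime {p : ℕ} [hp : Fact p.Prime] (hP : ∀ P : Sylow p G, Nat.card (P : Subgroup G) = p) :
    Nat.card {g : G // orderOf g = p} = Nat.card (Sylow p G) * (p - 1) := by
  classical
  let φ : (Σ P : Sylow p G, {x : (P : Subgroup G) // x ≠ 1}) → {g : G // orderOf g = p} := fun s =>
    ⟨(s.2.1 : G), by
      have h2 := orderOf_dvd_natCard (s.1 : Subgroup G) s.2.1.2
      rw [hP] at h2
      exact ((Nat.dvd_prime hp.out).mp h2).resolve_left fun e =>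
        s.2.2 (Subtype.ext (orderOf_eq_one_iff.mp e))⟩
  have hz : ∀ (P : Sylow p G) (x : G), x ∈ (P : Subgroup G) → orderOf x = p → zpowers x = (P : Subgroup G) :=
    fun P x hx ho => eq_of_le_of_card_ge (zpowers_le.mpr hx) (by rw [hP, Nat.card_zpowers, ho])
  have hbij : Function.Bijective φ := by
    constructor
    · rintro ⟨P, x⟩ ⟨Q, y⟩ e
      have e' : ((x.1 : (P : Subgroup G)) : G) = ((y.1 : (Q : Subgroup G)) : G) := congrArg Subtype.val e
      have hxo : orderOf ((x.1 : (P : Subgroup G)) : G) = p := (φ ⟨P, x⟩).2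
      have hPQ : P = Q := Sylow.ext (by rw [← hz P _ x.1.2 hxo, e', hz Q _ y.1.2 (e' ▸ hxo)])
      subst hPQ
      exact congrArg (Sigma.mk P) (Subtype.ext (Subtype.ext e'))
    · rintro ⟨g, hg⟩
      obtain ⟨P, hgP⟩ := (IsPGroup.of_card (n := 1)
        (show Nat.card (zpowers g) = p ^ 1 by rw [Nat.card_zpowers, hg, pow_one])).exists_le_sylow
      exact ⟨⟨P, ⟨⟨g, hgP (mem_zpowers g)⟩, fun e => hp.out.ne_one
        (hg ▸ orderOf_eq_one_iff.mpr (congrArg Subtype.val e))⟩⟩, rfl⟩
  haveI := Fintype.ofFinite (Sylow p G)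
  rw [← Nat.card_eq_of_bijective φ hbij, Nat.card_sigma]
  trans ∑ _P : Sylow p G, (p - 1)
  · exact Finset.sum_congr rfl fun P _ => by
      have := card_compl_one ↥(P : Subgroup G); rw [hP] at this; omega
  rw [Finset.sum_const, Finset.card_univ, smul_eq_mul, Nat.card_eq_fintype_card]

theorem five_count : ∀ k ∈ Nat.divisors 1584, k % 5 = 1 →
    4 * k = 1 ∨ 720 ≤ 4 * k ∨ 55 ∣ 4 * k → 11 ∣ k := by decide +kernel

/-- Order and element counts determine the smallest Mathieu group. -/
theorem iso_of_counts (hcard : Nat.card G = Nat.card ↥Spor.M11)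
    (hnse : {c : ℕ | 0 < c ∧ ∃ n : ℕ, c = Nat.card {g : G // orderOf g = n}} =
      {c : ℕ | 0 < c ∧ ∃ n : ℕ, c = Nat.card {g : ↥Spor.M11 // orderOf g = n}}) :
    Nonempty (G ≃* ↥Spor.M11) := by
  rw [card_eq isM11_spor] at hcard
  haveI : Fact (Nat.Prime 11) := ⟨by norm_num⟩
  haveI : Fact (Nat.Prime 5) := ⟨by norm_num⟩
  have shape : ∀ n : ℕ, 0 < Nat.card {g : G // orderOf g = n} →
      Nat.card {g : G // orderOf g = n} = 1 ∨ 720 ≤ Nat.card {g : G // orderOf g = n} ∨
        55 ∣ Nat.card {g : G // orderOf g = n} := by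
    intro n hn
    obtain ⟨-, m, hm⟩ := (Set.ext_iff.mp hnse _).mp ⟨hn, n, rfl⟩
    exact count_shape hn hm
  have hP11 : ∀ P : Sylow 11 G, Nat.card (P : Subgroup G) = 11 := CfsgLib.Order7920.card_eleven hcard
  have hP5 : ∀ P : Sylow 5 G, Nat.card (P : Subgroup G) = 5 := fun P => by
    rw [P.card_eq_multiplicity, hcard, CfsgLib.Order7920.fac_eq (by norm_num) (by norm_num)
      (show 5 ^ 1 ∣ 7920 by norm_num) (by norm_num), pow_one]
  have hn11 : Nat.card (Sylow 11 G) = 144 := by
    have h := shape 11 (by rw [count_prime hP11]; exact Nat.mul_pos Nat.card_pos (by norm_num))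
    rw [count_prime hP11] at h
    rcases CfsgLib.Order7920.sylow_count_cases hcard with e | e | e | e <;> rw [e] at h <;>
      first | exact e | omega
  have hn5 : 11 ∣ Nat.card (Sylow 5 G) := by
    have h := shape 5 (by rw [count_prime hP5]; exact Nat.mul_pos Nat.card_pos (by norm_num))
    rw [count_prime hP5, mul_comm] at h
    obtain ⟨P⟩ : Nonempty (Sylow 5 G) := inferInstance
    have h1 := P.card_dvd_index
    have h2 := (P : Subgroup G).card_mul_index
    rw [hP5, hcard] at h2
    refine five_count _ (Nat.mem_divisors.mpr ⟨?_, by norm_num⟩) (card_sylow_modEq_one 5 G) h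
    rwa [show (P : Subgroup G).index = 1584 by omega] at h1
  refine iso_of_cent hcard fun a ha => ?_
  obtain ⟨P, hP⟩ := (IsPGroup.of_card (n := 1)
    (show Nat.card (zpowers a) = 11 ^ 1 by rw [Nat.card_zpowers, ha, pow_one])).exists_le_sylow
  have hPe : zpowers a = (P : Subgroup G) :=
    eq_of_le_of_card_ge hP (by rw [hP11, Nat.card_zpowers, ha])
  have hN : Nat.card (normalizer ((zpowers a : Subgroup G) : Set G)) = 55 := by
    have h := (normalizer ((P : Subgroup G) : Set G)).card_mul_index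
    rw [← CfsgLib.Order7920.sylow_card_index P, hn11, hcard] at h
    rw [hPe]; omega
  have hd := card_dvd_of_le (cent_le_norm a)
  rw [hN] at hd
  have h11 : 11 ∣ Nat.card (centralizer ({a} : Set G)) := ha ▸ orderOf_dvd_natCard _ (mem_cent.mpr rfl)
  have h5 : ¬ 5 ∣ Nat.card (centralizer ({a} : Set G)) := by
    intro h5
    obtain ⟨q, hq, hqo⟩ := CfsgLib.Order7920.exists_order (show Nat.Prime 5 by norm_num) h5
    obtain ⟨Q, hQ⟩ := (IsPGroup.of_card (n := 1)
      (show Nat.card (zpowers q) = 5 ^ 1 by rw [Nat.card_zpowers, hqo, pow_one])).exists_le_sylow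
    have hQe : zpowers q = (Q : Subgroup G) :=
      eq_of_le_of_card_ge hQ (by rw [hP5, Nat.card_zpowers, hqo])
    have haq : a ∈ centralizer ({q} : Set G) := mem_cent.mpr (mem_cent.mp hq).symm
    have h6 : 11 ∣ Nat.card (normalizer ((Q : Subgroup G) : Set G)) := by
      rw [← hQe, ← ha]; exact orderOf_dvd_natCard _ (cent_le_norm q haq)
    have h7 := (normalizer ((Q : Subgroup G) : Set G)).card_mul_index
    rw [show (normalizer ((Q : Subgroup G) : Set G)).index = Nat.card (Sylow 5 G) from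
      Q.card_eq_index_normalizer.symm, hcard] at h7
    have := Nat.mul_dvd_mul h6 hn5
    rw [h7] at this
    norm_num at this
  have hdiv : Nat.card (centralizer ({a} : Set G)) ∈ Nat.divisors 55 :=
    Nat.mem_divisors.2 ⟨hd, by norm_num⟩
  revert hdiv h11 h5
  generalize Nat.card (centralizer ({a} : Set G)) = c
  intro h11 h5 hdiv
  have key : ∀ c ∈ Nat.divisors 55, 11 ∣ c → ¬ 5 ∣ c → c = 11 := by decide
  exact key c hdiv h11 h5

end CfsgM11Det
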